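import Mathlib
import Cfsg.Agent.Lib.Schur.MonomialParts
import Cfsg.Agent.Lib.Sporadic.M22Chain
import Cfsg.Agent.Lib.Sporadic.M22Cover.FourData

/-!
# The monomial check of degree 1232
-/

set_option autoImplicit false
set_option maxRecDepth 100000
set_option maxHeartbeats 0
set_option Elab.async false

noncomputable section

namespace CfsgLib.Sporadic.M22Cover

open CfsgLib.Schur.Cert CfsgLib.Sporadic CfsgLib.Sporadic.M22Chain

theorem genFour0 : monGen 1232 4 M22Chain.level0 [M22Chain.level1, M22Chain.level2, M22Chain.level3] (monFour) = true := by decide +kernel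

theorem relFour0_0 : allFrom (monRel 1232 4 M22Chain.level0 (monFour)) 0 1 = true := by decide +kernel

theorem relFour0_1 : allFrom (monRel 1232 4 M22Chain.level0 (monFour)) 1 2 = true := by decide +kernel

theorem relFour0_2 : allFrom (monRel 1232 4 M22Chain.level0 (monFour)) 2 3 = true := by decide +kernel

theorem relFour0_3 : allFrom (monRel 1232 4 M22Chain.level0 (monFour)) 3 4 = true := by decide +kernel

theorem relFour0_4 : allFrom (monRel 1232 4 M22Chain.level0 (monFour)) 4 5 = true := by decide +kernel

theorem relFour0_5 : allFrom (monRel 1232 4 M22Chain.level0 (monFour)) 5 6 = true := by decide +kernel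

theorem relFour0_6 : allFrom (monRel 1232 4 M22Chain.level0 (monFour)) 6 7 = true := by decide +kernel

theorem relFour0_7 : allFrom (monRel 1232 4 M22Chain.level0 (monFour)) 7 8 = true := by decide +kernel

theorem genFour1 : monGen 1232 4 M22Chain.level1 [M22Chain.level2, M22Chain.level3] ((monFour).tail) = true := by decide +kernel

theorem relFour1_0 : allFrom (monRel 1232 4 M22Chain.level1 ((monFour).tail)) 0 1 = true := by decide +kernel

theorem relFour1_1 : allFrom (monRel 1232 4 M22Chain.level1 ((monFour).tail)) 1 2 = true := by decide +kernel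

theorem relFour1_2 : allFrom (monRel 1232 4 M22Chain.level1 ((monFour).tail)) 2 3 = true := by decide +kernel

theorem relFour1_3 : allFrom (monRel 1232 4 M22Chain.level1 ((monFour).tail)) 3 4 = true := by decide +kernel

theorem relFour1_4 : allFrom (monRel 1232 4 M22Chain.level1 ((monFour).tail)) 4 5 = true := by decide +kernel

theorem relFour1_5 : allFrom (monRel 1232 4 M22Chain.level1 ((monFour).tail)) 5 6 = true := by decide +kernel

theorem relFour1_6 : allFrom (monRel 1232 4 M22Chain.level1 ((monFour).tail)) 6 7 = true := by decide +kernel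

theorem relFour1_7 : allFrom (monRel 1232 4 M22Chain.level1 ((monFour).tail)) 7 8 = true := by decide +kernel

theorem genFour2 : monGen 1232 4 M22Chain.level2 [M22Chain.level3] (((monFour).tail).tail) = true := by decide +kernel

theorem relFour2_0 : allFrom (monRel 1232 4 M22Chain.level2 (((monFour).tail).tail)) 0 1 = true := by decide +kernel

theorem relFour2_1 : allFrom (monRel 1232 4 M22Chain.level2 (((monFour).tail).tail)) 1 2 = true := by decide +kernel

theorem relFour2_2 : allFrom (monRel 1232 4 M22Chain.level2 (((monFour).tail).tail)) 2 3 = true := by decide +kernel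

theorem relFour2_3 : allFrom (monRel 1232 4 M22Chain.level2 (((monFour).tail).tail)) 3 4 = true := by decide +kernel

theorem relFour2_4 : allFrom (monRel 1232 4 M22Chain.level2 (((monFour).tail).tail)) 4 5 = true := by decide +kernel

theorem relFour2_5 : allFrom (monRel 1232 4 M22Chain.level2 (((monFour).tail).tail)) 5 6 = true := by decide +kernel

theorem relFour2_6 : allFrom (monRel 1232 4 M22Chain.level2 (((monFour).tail).tail)) 6 7 = true := by decide +kernel

theorem genFour3 : monGen 1232 4 M22Chain.level3 [] ((((monFour).tail).tail).tail) = true := by decide +kernel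

theorem relFour3_0 : allFrom (monRel 1232 4 M22Chain.level3 ((((monFour).tail).tail).tail)) 0 1 = true := by decide +kernel

theorem relFour3_1 : allFrom (monRel 1232 4 M22Chain.level3 ((((monFour).tail).tail).tail)) 1 2 = true := by decide +kernel

theorem relFour3_2 : allFrom (monRel 1232 4 M22Chain.level3 ((((monFour).tail).tail).tail)) 2 3 = true := by decide +kernel

theorem relFour3_3 : allFrom (monRel 1232 4 M22Chain.level3 ((((monFour).tail).tail).tail)) 3 4 = true := by decide +kernel

theorem relFour3_4 : allFrom (monRel 1232 4 M22Chain.level3 ((((monFour).tail).tail).tail)) 4 5 = true := by decide +kernel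

theorem relFour3_5 : allFrom (monRel 1232 4 M22Chain.level3 ((((monFour).tail).tail).tail)) 5 6 = true := by decide +kernel

theorem relFour3_6 : allFrom (monRel 1232 4 M22Chain.level3 ((((monFour).tail).tail).tail)) 6 7 = true := by decide +kernel

theorem four_check : monOK 1232 4 M22Chain.chain monFour = true :=
  monOK_cons genFour0 (allFrom_trans relFour0_0 (allFrom_trans relFour0_1 (allFrom_trans relFour0_2 (allFrom_trans relFour0_3 (allFrom_trans relFour0_4 (allFrom_trans relFour0_5 (allFrom_trans relFour0_6 (relFour0_7)))))))) (monOK_cons genFour1 (allFrom_trans relFour1_0 (allFrom_trans relFour1_1 (allFrom_trans relFour1_2 (allFrom_trans relFour1_3 (allFrom_trans relFour1_4 (allFrom_trans relFour1_5 (allFrom_trans relFour1_6 (relFour1_7)))))))) (monOK_cons genFour2 (allFrom_trans relFour2_0 (allFrom_trans relFour2_1 (allFrom_trans relFour2_2 (allFrom_trans relFour2_3 (allFrom_trans relFour2_4 (allFrom_trans relFour2_5 (relFour2_6))))))) (monOK_cons genFour3 (allFrom_trans relFour3_0 (allFrom_trans relFour3_1 (allFrom_trans relFour3_2 (allFrom_trans relFour3_3 (allFrom_trans relFour3_4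 (allFrom_trans relFour3_5 (relFour3_6))))))) (rfl))))

end CfsgLib.Sporadic.M22Cover
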