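import Mathlib
import Cfsg.Agent.Lib.Schur.MonomialParts
import Cfsg.Agent.Lib.Sporadic.M22Chain
import Cfsg.Agent.Lib.Sporadic.M22Cover.ThreeData

/-!
# The monomial check of degree 231
-/

set_option autoImplicit false
set_option maxRecDepth 100000
set_option maxHeartbeats 0
set_option Elab.async false

noncomputable section

namespace CfsgLib.Sporadic.M22Cover

open CfsgLib.Schur.Cert CfsgLib.Sporadic CfsgLib.Sporadic.M22Chain

theorem genThree0 : monGen 231 3 M22Chain.level0 [M22Chain.level1, M22Chain.level2, M22Chain.level3] (monThree) = true := by decide +kernel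

theorem relThree0_0 : allFrom (monRel 231 3 M22Chain.level0 (monThree)) 0 1 = true := by decide +kernel

theorem relThree0_1 : allFrom (monRel 231 3 M22Chain.level0 (monThree)) 1 2 = true := by decide +kernel

theorem relThree0_2 : allFrom (monRel 231 3 M22Chain.level0 (monThree)) 2 3 = true := by decide +kernel

theorem relThree0_3 : allFrom (monRel 231 3 M22Chain.level0 (monThree)) 3 4 = true := by decide +kernel

theorem relThree0_4 : allFrom (monRel 231 3 M22Chain.level0 (monThree)) 4 5 = true := by decide +kernel

theorem relThree0_5 : allFrom (monRel 231 3 M22Chain.level0 (monThree)) 5 6 = true := by decide +kernel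

theorem relThree0_6 : allFrom (monRel 231 3 M22Chain.level0 (monThree)) 6 7 = true := by decide +kernel

theorem relThree0_7 : allFrom (monRel 231 3 M22Chain.level0 (monThree)) 7 8 = true := by decide +kernel

theorem genThree1 : monGen 231 3 M22Chain.level1 [M22Chain.level2, M22Chain.level3] ((monThree).tail) = true := by decide +kernel

theorem relThree1_0 : allFrom (monRel 231 3 M22Chain.level1 ((monThree).tail)) 0 1 = true := by decide +kernel

theorem relThree1_1 : allFrom (monRel 231 3 M22Chain.level1 ((monThree).tail)) 1 2 = true := by decide +kernel

theorem relThree1_2 : allFrom (monRel 231 3 M22Chain.level1 ((monThree).tail)) 2 3 = true := by decide +kernel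

theorem relThree1_3 : allFrom (monRel 231 3 M22Chain.level1 ((monThree).tail)) 3 4 = true := by decide +kernel

theorem relThree1_4 : allFrom (monRel 231 3 M22Chain.level1 ((monThree).tail)) 4 5 = true := by decide +kernel

theorem relThree1_5 : allFrom (monRel 231 3 M22Chain.level1 ((monThree).tail)) 5 6 = true := by decide +kernel

theorem relThree1_6 : allFrom (monRel 231 3 M22Chain.level1 ((monThree).tail)) 6 7 = true := by decide +kernel

theorem relThree1_7 : allFrom (monRel 231 3 M22Chain.level1 ((monThree).tail)) 7 8 = true := by decide +kernel

theorem genThree2 : monGen 231 3 M22Chain.level2 [M22Chain.level3] (((monThree).tail).tail) = true := by decide +kernel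

theorem relThree2_0 : allFrom (monRel 231 3 M22Chain.level2 (((monThree).tail).tail)) 0 1 = true := by decide +kernel

theorem relThree2_1 : allFrom (monRel 231 3 M22Chain.level2 (((monThree).tail).tail)) 1 2 = true := by decide +kernel

theorem relThree2_2 : allFrom (monRel 231 3 M22Chain.level2 (((monThree).tail).tail)) 2 3 = true := by decide +kernel

theorem relThree2_3 : allFrom (monRel 231 3 M22Chain.level2 (((monThree).tail).tail)) 3 4 = true := by decide +kernel

theorem relThree2_4 : allFrom (monRel 231 3 M22Chain.level2 (((monThree).tail).tail)) 4 5 = true := by decide +kernel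

theorem relThree2_5 : allFrom (monRel 231 3 M22Chain.level2 (((monThree).tail).tail)) 5 6 = true := by decide +kernel

theorem relThree2_6 : allFrom (monRel 231 3 M22Chain.level2 (((monThree).tail).tail)) 6 7 = true := by decide +kernel

theorem genThree3 : monGen 231 3 M22Chain.level3 [] ((((monThree).tail).tail).tail) = true := by decide +kernel

theorem relThree3_0 : allFrom (monRel 231 3 M22Chain.level3 ((((monThree).tail).tail).tail)) 0 1 = true := by decide +kernel

theorem relThree3_1 : allFrom (monRel 231 3 M22Chain.level3 ((((monThree).tail).tail).tail)) 1 2 = true := by decide +kernel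

theorem relThree3_2 : allFrom (monRel 231 3 M22Chain.level3 ((((monThree).tail).tail).tail)) 2 3 = true := by decide +kernel

theorem relThree3_3 : allFrom (monRel 231 3 M22Chain.level3 ((((monThree).tail).tail).tail)) 3 4 = true := by decide +kernel

theorem relThree3_4 : allFrom (monRel 231 3 M22Chain.level3 ((((monThree).tail).tail).tail)) 4 5 = true := by decide +kernel

theorem relThree3_5 : allFrom (monRel 231 3 M22Chain.level3 ((((monThree).tail).tail).tail)) 5 6 = true := by decide +kernel

theorem relThree3_6 : allFrom (monRel 231 3 M22Chain.level3 ((((monThree).tail).tail).tail)) 6 7 = true := by decide +kernel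

theorem three_check : monOK 231 3 M22Chain.chain monThree = true :=
  monOK_cons genThree0 (allFrom_trans relThree0_0 (allFrom_trans relThree0_1 (allFrom_trans relThree0_2 (allFrom_trans relThree0_3 (allFrom_trans relThree0_4 (allFrom_trans relThree0_5 (allFrom_trans relThree0_6 (relThree0_7)))))))) (monOK_cons genThree1 (allFrom_trans relThree1_0 (allFrom_trans relThree1_1 (allFrom_trans relThree1_2 (allFrom_trans relThree1_3 (allFrom_trans relThree1_4 (allFrom_trans relThree1_5 (allFrom_trans relThree1_6 (relThree1_7)))))))) (monOK_cons genThree2 (allFrom_trans relThree2_0 (allFrom_trans relThree2_1 (allFrom_trans relThree2_2 (allFrom_trans relThree2_3 (allFrom_trans relThree2_4 (allFrom_trans relThree2_5 (relThree2_6))))))) (monOK_cons genThree3 (allFrom_trans relThree3_0 (allFrom_trans relThree3_1 (allFrom_trans relThree3_2 (allFrom_trans relThree3_3 (allFrom_trans relThree3_4 (allFrom_trans relThree3_5 (relThree3_6))))))) (rfl))))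

end CfsgLib.Sporadic.M22Cover
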